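import Mathlib

/-! Stabilisers of uniform partitions in symmetric and alternating groups. -/

set_option autoImplicit false

namespace Cfsg.Agent.Lib.Partition

open Equiv Equiv.Perm
open scoped Pointwise

variable {Ω : Type*} [Fintype Ω] [DecidableEq Ω] {a b : ℕ} (f : Ω → Fin b)

/-- The stabiliser of the partition into the fibres of `f`. -/
def partStab : Subgroup (Perm Ω) where
  carrier := {g | ∀ x y : Ω, f x = f y ↔ f (g x) = f (g y)}
  one_mem' _ _ := Iff.rfl
  mul_mem' := fun {g h} hg hh x y => (hh x y).trans (hg (h x) (h y))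
  inv_mem' := fun {g} hg x y => by
    have := hg (g⁻¹ x) (g⁻¹ y)
    simpa using this.symm

omit [Fintype Ω] [DecidableEq Ω] in
theorem closure_eq :
    Subgroup.closure {g : Perm Ω | ∀ x y : Ω, f x = f y ↔ f (g x) = f (g y)} = partStab f :=
  Subgroup.closure_eq (partStab f)

omit [Fintype Ω] in
theorem swap_preserves {u v : Ω} (h : f u = f v) (z : Ω) : f (Equiv.swap u v z) = f z := by
  rcases eq_or_ne z u with rfl | hu
  · rw [Equiv.swap_apply_left, h]
  · rcases eq_or_ne z v with rfl | hv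
    · rw [Equiv.swap_apply_right, h]
    · rw [Equiv.swap_apply_of_ne_of_ne hu hv]

omit [Fintype Ω] in
theorem swap_mem {u v : Ω} (h : f u = f v) : Equiv.swap u v ∈ partStab f := fun x y => by
  rw [swap_preserves f h, swap_preserves f h]

variable {f} (hf : ∀ i : Fin b, Nat.card {x : Ω // f x = i} = a)
include hf

omit [DecidableEq Ω] in
theorem card_eq : Fintype.card Ω = b * a := by
  rw [Fintype.card_congr (Equiv.sigmaFiberEquiv f).symm, Fintype.card_sigma]
  rw [Finset.sum_const_nat (fun i _ => (Nat.card_eq_fintype_card.symm.trans (hf i))),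
    Finset.card_univ, Fintype.card_fin]

theorem card_fibre (i : Fin b) : (Finset.univ.filter fun z => f z = i).card = a := by
  rw [← Fintype.card_subtype, ← Nat.card_eq_fintype_card, hf]

theorem exists_two_avoid (i : Fin b) (s : Finset Ω) (h : (s.filter fun z => f z = i).card + 2 ≤ a) :
    ∃ u v, u ≠ v ∧ f u = i ∧ f v = i ∧ u ∉ s ∧ v ∉ s := by
  have h1 : 1 < ((Finset.univ.filter fun z => f z = i) \ (s.filter fun z => f z = i)).card := by
    have := Finset.le_card_sdiff (s.filter fun z => f z = i) (Finset.univ.filter fun z => f z = i)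
    rw [card_fibre hf i] at this
    omega
  obtain ⟨u, hu, v, hv, huv⟩ := Finset.one_lt_card.1 h1
  simp only [Finset.mem_sdiff, Finset.mem_filter, Finset.mem_univ, true_and, not_and] at hu hv
  exact ⟨u, v, huv, hu.1, hv.1, fun h => hu.2 h hu.1, fun h => hv.2 h hv.1⟩

/-- A permutation of the blocks lifts to the partition stabiliser. -/
theorem exists_lift (σ : Perm (Fin b)) : ∃ g ∈ partStab f,
    (∀ z, f (g z) = σ (f z)) ∧ ∀ z, σ (f z) = f z → g z = z := by
  let e : Ω ≃ Fin b × Fin a := (Equiv.sigmaFiberEquiv f).symm.trans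
    ((Equiv.sigmaCongrRight fun i => Fintype.equivFinOfCardEq
      (by rw [← Nat.card_eq_fintype_card, hf i])).trans (Equiv.sigmaEquivProd _ _))
  have he : ∀ z, (e z).1 = f z := fun z => rfl
  let g : Perm Ω := e.trans ((Equiv.prodCongr σ (Equiv.refl _)).trans e.symm)
  have hg : ∀ z, f (g z) = σ (f z) := fun z => by
    rw [← he (g z)]
    simp [g, he]
  refine ⟨g, fun x y => ?_, hg, fun z hz => ?_⟩
  · rw [hg, hg]; exact σ.injective.eq_iff.symm
  · apply e.injective
    simp only [g, Equiv.trans_apply, Equiv.apply_symm_apply, Equiv.prodCongr_apply, Prod.map,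
      Equiv.refl_apply]
    rw [he, hz, ← he]

/-- The even part moves any point to any other. -/
theorem exists_even_move (ha : 2 ≤ a) (hb : 2 ≤ b) (x y : Ω) :
    ∃ w ∈ partStab f ⊓ alternatingGroup Ω, w x = y := by
  obtain ⟨g, hg, hgf, -⟩ := exists_lift hf (Equiv.swap (f x) (f y))
  set g' := Equiv.swap (g x) y * g with hg'
  have hfy : f (g x) = f y := by rw [hgf, Equiv.swap_apply_left]
  have hm : g' ∈ partStab f := mul_mem (swap_mem f hfy) hg
  have hgx : g' x = y := by rw [hg', Perm.mul_apply, Equiv.swap_apply_left]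
  rcases Int.units_eq_one_or (sign g') with h | h
  · exact ⟨g', ⟨hm, Equiv.Perm.mem_alternatingGroup.2 h⟩, hgx⟩
  · obtain ⟨i, hi⟩ : ∃ i : Fin b, i ≠ f y := by
      haveI : Nontrivial (Fin b) := Fin.nontrivial_iff_two_le.2 hb
      exact exists_ne _
    obtain ⟨u, v, huv, hu, hv, -⟩ := exists_two_avoid hf i ∅ (by simpa using ha)
    refine ⟨Equiv.swap u v * g', ⟨mul_mem (swap_mem f (hu.trans hv.symm)) hm, ?_⟩, ?_⟩
    · refine Equiv.Perm.mem_alternatingGroup.2 ?_
      rw [map_mul, sign_swap huv, h]; rfl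
    · rw [Perm.mul_apply, hgx, Equiv.swap_apply_of_ne_of_ne]
      · intro e; exact hi (e ▸ hu.symm)
      · intro e; exact hi (e ▸ hv.symm)

/-- Inside the fibres the even part is transitive off any given point. -/
theorem exists_even_flip (ha : 2 ≤ a) (hab : 3 ≤ a ∨ 3 ≤ b) (hb : 2 ≤ b) {x y y' : Ω}
    (h : f y = f y') (hy : y ≠ x) (hy' : y' ≠ x) :
    ∃ w ∈ partStab f ⊓ alternatingGroup Ω, w x = x ∧ w y = y' := by
  rcases eq_or_ne y y' with rfl | hne
  · exact ⟨1, one_mem _, rfl, rfl⟩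
  obtain ⟨i, hiy, hi⟩ : ∃ i : Fin b, i ≠ f y ∧ (i = f x → 3 ≤ a) := by
    by_cases hb3 : 3 ≤ b
    · obtain ⟨i, -, hi⟩ := Finset.exists_mem_notMem_of_card_lt_card (s := {f x, f y})
        (t := (Finset.univ : Finset (Fin b))) (lt_of_le_of_lt Finset.card_le_two (by simp; omega))
      simp only [Finset.mem_insert, Finset.mem_singleton, not_or] at hi
      exact ⟨i, hi.2, fun e => absurd e hi.1⟩
    · haveI : Nontrivial (Fin b) := Fin.nontrivial_iff_two_le.2 hb
      obtain ⟨i, hi⟩ := exists_ne (f y)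
      exact ⟨i, hi, fun _ => hab.resolve_right hb3⟩
  obtain ⟨u, v, huv, hu, hv, hus, hvs⟩ := exists_two_avoid hf i {x} (by
    by_cases hx : f x = i
    · have := hi hx.symm
      simp [Finset.filter_singleton, hx]; omega
    · simp [Finset.filter_singleton, hx]; omega)
  rw [Finset.mem_singleton] at hus hvs
  refine ⟨Equiv.swap y y' * Equiv.swap u v,
    ⟨mul_mem (swap_mem f h) (swap_mem f (hu.trans hv.symm)), ?_⟩, ?_, ?_⟩
  · refine Equiv.Perm.mem_alternatingGroup.2 ?_
    rw [map_mul, sign_swap huv, sign_swap hne]; rfl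
  · rw [Perm.mul_apply, Equiv.swap_apply_of_ne_of_ne (Ne.symm hus) (Ne.symm hvs),
      Equiv.swap_apply_of_ne_of_ne hy.symm hy'.symm]
  · have hyu : y ≠ u := fun e => hiy (by rw [e, hu])
    have hyv : y ≠ v := fun e => hiy (by rw [e, hv])
    rw [Perm.mul_apply, Equiv.swap_apply_of_ne_of_ne hyu hyv, Equiv.swap_apply_left]

/-- The even part moves blocks around a fixed point. -/
theorem exists_even_block (ha : 2 ≤ a) {x z : Ω} {j : Fin b} (hz : f z ≠ f x) (hj : j ≠ f x) :
    ∃ w ∈ partStab f ⊓ alternatingGroup Ω, w x = x ∧ f (w z) = j := by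
  obtain ⟨g, hg, hgf, hgfix⟩ := exists_lift hf (Equiv.swap (f z) j)
  have hgx : g x = x := hgfix x (Equiv.swap_apply_of_ne_of_ne hz.symm hj.symm)
  have hgz : f (g z) = j := by rw [hgf, Equiv.swap_apply_left]
  rcases Int.units_eq_one_or (sign g) with h | h
  · exact ⟨g, ⟨hg, Equiv.Perm.mem_alternatingGroup.2 h⟩, hgx, hgz⟩
  · obtain ⟨u, v, huv, hu, hv, -⟩ := exists_two_avoid hf j ∅ (by simpa using ha)
    refine ⟨Equiv.swap u v * g, ⟨mul_mem (swap_mem f (hu.trans hv.symm)) hg, ?_⟩, ?_, ?_⟩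
    · refine Equiv.Perm.mem_alternatingGroup.2 ?_
      rw [map_mul, sign_swap huv, h]; rfl
    · rw [Perm.mul_apply, hgx, Equiv.swap_apply_of_ne_of_ne]
      · intro e; exact hj (e ▸ hu.symm)
      · intro e; exact hj (e ▸ hv.symm)
    · rw [Perm.mul_apply, swap_preserves f (hu.trans hv.symm), hgz]

/-- An overgroup of the even part which does not preserve the partition is primitive. -/
theorem isPreprimitive (ha : 2 ≤ a) (hb : 2 ≤ b) (hab : 3 ≤ a ∨ 3 ≤ b) (K : Subgroup (Perm Ω))
    (hK : partStab f ⊓ alternatingGroup Ω ≤ K) {k : Perm Ω} (hk : k ∈ K) (hkW : k ∉ partStab f) :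
    MulAction.IsPreprimitive K Ω := by
  haveI : MulAction.IsPretransitive K Ω := ⟨fun x y => by
    obtain ⟨w, hw, hwx⟩ := exists_even_move hf ha hb x y
    exact ⟨⟨w, hK hw⟩, hwx⟩⟩
  have key : ∀ (B : Set Ω), MulAction.IsBlock K B → ∀ x ∈ B, ∀ y ∈ B, y ≠ x → B ≠ Set.univ →
      B = {z | f z = f x} := by
    intro B hB x hx y hy hyx hBu
    have hst : ∀ w ∈ partStab f ⊓ alternatingGroup Ω, ∀ p ∈ B, w p = p → ∀ z ∈ B, w z ∈ B := by
      intro w hw p hp hwp z hz
      have h1 : (⟨w, hK hw⟩ : K) • B = B := by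
        by_contra hne
        have hd := hB (g₁ := ⟨w, hK hw⟩) (g₂ := 1) (by rw [one_smul]; exact hne)
        rw [one_smul] at hd
        exact Set.disjoint_left.1 hd ⟨p, hp, hwp⟩ hp
      exact h1 ▸ Set.smul_mem_smul_set hz
    have hfib : ∀ p ∈ B, ∀ z ∈ B, z ≠ p → ∀ z', f z = f z' → z' ∈ B := by
      intro p hp z hz hzp z' hz'
      rcases eq_or_ne z' p with rfl | hne
      · exact hp
      obtain ⟨w, hw, hwp, hwz⟩ := exists_even_flip hf ha hab hb hz' hzp hne
      exact hwz ▸ hst w hw p hp hwp z hz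
    by_cases hcr : ∃ z ∈ B, f z ≠ f x
    · obtain ⟨z, hz, hzx⟩ := hcr
      exfalso
      refine hBu (Set.eq_univ_of_forall fun t => ?_)
      by_cases htx : f t = f x
      · exact hfib z hz x hx (fun e => hzx (by rw [e])) t htx.symm
      · obtain ⟨w, hw, hwx, hwz⟩ := exists_even_block hf ha hzx htx
        exact hfib x hx (w z) (hst w hw x hx hwx z hz) (fun e => htx (by rw [← hwz, e])) t hwz
    · simp only [not_exists, not_and, not_not] at hcr
      ext t
      exact ⟨fun ht => hcr t ht, fun ht => hfib x hx y hy hyx t ((hcr y hy).trans ht.symm)⟩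
  refine ⟨fun {B} hB => ?_⟩
  by_contra hnt
  simp only [MulAction.IsTrivialBlock, not_or] at hnt
  obtain ⟨p, hp, q, hq, hpq⟩ := Set.not_subsingleton_iff.1 hnt.1
  refine hkW fun x z => ?_
  obtain ⟨w, hw, hwx⟩ := exists_even_move hf ha hb p x
  have hC : ((⟨w, hK hw⟩ : K) • B) = {t | f t = f x} :=
    key _ (hB.translate _) x ⟨p, hp, hwx⟩ (w q) ⟨q, hq, rfl⟩
      (fun e => hpq (w.injective (hwx.trans e.symm)))
      (fun e => hnt.2 (by
        have := congrArg (fun S : Set Ω => (⟨w, hK hw⟩ : K)⁻¹ • S) e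
        simpa [smul_eq_iff_eq_inv_smul] using this))
  have hD : (((⟨k, hk⟩ : K) * ⟨w, hK hw⟩) • B) = {t | f t = f (k x)} :=
    key _ (hB.translate _) (k x) ⟨p, hp, by show k (w p) = k x; rw [hwx]⟩ (k (w q)) ⟨q, hq, rfl⟩
      (fun e => hpq (w.injective (hwx.trans (k.injective e).symm)))
      (fun e => hnt.2 (by
        have := congrArg (fun S : Set Ω => ((⟨k, hk⟩ : K) * ⟨w, hK hw⟩)⁻¹ • S) e
        simpa [smul_eq_iff_eq_inv_smul] using this))
  rw [mul_smul, hC] at hD
  constructor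
  · intro h
    have : (⟨k, hk⟩ : K) • z ∈ (⟨k, hk⟩ : K) • {t | f t = f x} := Set.smul_mem_smul_set h.symm
    rw [hD] at this
    exact this.symm
  · intro h
    have : (⟨k, hk⟩ : K) • z ∈ {t | f t = f (k x)} := h.symm
    rw [← hD, Set.smul_mem_smul_set_iff] at this
    exact this.symm

theorem partStab_ne_top (ha : 2 ≤ a) (hb : 2 ≤ b) : partStab f ≠ ⊤ := by
  intro h
  obtain ⟨x, x', hne, hx, hx', -⟩ := exists_two_avoid hf ⟨0, by omega⟩ ∅ (by simpa using ha)
  obtain ⟨y, y', -, hy, -, -⟩ := exists_two_avoid hf ⟨1, by omega⟩ ∅ (by simpa using ha)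
  have hm : Equiv.swap x y ∈ partStab f := h ▸ Subgroup.mem_top _
  have hxy : f x ≠ f y := by rw [hx, hy]; simp [Fin.ext_iff]
  have := (hm x x').1 (hx.trans hx'.symm)
  rw [Equiv.swap_apply_left, Equiv.swap_apply_of_ne_of_ne hne.symm
    (fun e => hxy (by rw [← e, hx, hx']))] at this
  exact hxy ((hx.trans hx'.symm).trans this.symm)

end Cfsg.Agent.Lib.Partition
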