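import Mathlib
import Cfsg.Agent.Lib.Partition.Uniform

/-! Maximality of uniform partition stabilisers. -/

set_option autoImplicit false

namespace Cfsg.Agent.Lib.Partition

open Equiv Equiv.Perm
open scoped Pointwise

variable {Ω : Type*} [Fintype Ω] [DecidableEq Ω] {a b : ℕ} {f : Ω → Fin b}
  (hf : ∀ i : Fin b, Nat.card {x : Ω // f x = i} = a)
include hf

omit hf in
theorem eq_top_or_eq_alternating {K : Subgroup (Perm Ω)} (h : alternatingGroup Ω ≤ K) :
    K = ⊤ ∨ K = alternatingGroup Ω := by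
  rcases subsingleton_or_nontrivial Ω with hs | hs
  · exact Or.inl (Subsingleton.elim _ _)
  have h2 := Subgroup.relIndex_mul_index h
  rw [alternatingGroup.index_eq_two] at h2
  rcases (Nat.dvd_prime Nat.prime_two).1 (Dvd.intro_left _ h2) with h1 | h1
  · exact Or.inl (Subgroup.index_eq_one.1 h1)
  · exact Or.inr (eq_alternatingGroup_of_index_eq_two h1)

theorem isCoatom_partStab (ha : 2 ≤ a) (hb : 2 ≤ b) : IsCoatom (partStab f) := by
  refine ⟨partStab_ne_top hf ha hb, fun K hK => ?_⟩
  obtain ⟨k, hk, hkW⟩ := SetLike.exists_of_lt hK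
  obtain ⟨u, v, huv, hu, hv, -⟩ := exists_two_avoid hf ⟨0, by omega⟩ ∅ (by simpa using ha)
  have hsw : Equiv.swap u v ∈ K := hK.le (swap_mem f (hu.trans hv.symm))
  by_cases hab : 3 ≤ a ∨ 3 ≤ b
  · exact subgroup_eq_top_of_isPreprimitive_of_isSwap_mem
      (isPreprimitive hf ha hb hab K (inf_le_left.trans hK.le) hk hkW) _ ⟨u, v, huv, rfl⟩ hsw
  · -- four points: the stabiliser has index three
    obtain ⟨rfl, rfl⟩ : a = 2 ∧ b = 2 := by omega
    have h4 : Fintype.card Ω = 4 := card_eq hf
    have hdvd8 : 8 ≤ Nat.card (partStab f) := by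
      have hne01 : (0 : Fin 2) ≠ 1 := by decide
      obtain ⟨u0, u1, hu01, hu0, hu1, -⟩ := exists_two_avoid hf 0 ∅ (by simp)
      obtain ⟨v0, v1, hv01, hv0, hv1, -⟩ := exists_two_avoid hf 1 ∅ (by simp)
      haveI : Fact (Nat.Prime 2) := ⟨Nat.prime_two⟩
      -- transitive with a point stabiliser of order at least two
      haveI : MulAction.IsPretransitive (partStab f) Ω := ⟨fun x y => by
        obtain ⟨w, hw, hwx⟩ := exists_even_move hf (le_refl 2) (le_refl 2) x y
        exact ⟨⟨w, hw.1⟩, hwx⟩⟩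
      have h1 := (MulAction.stabilizer (partStab f) u0).card_mul_index
      rw [MulAction.index_stabilizer_of_transitive, Nat.card_eq_fintype_card (α := Ω), h4] at h1
      have h2 : 2 ≤ Nat.card (MulAction.stabilizer (partStab f) u0) := by
        haveI : Nontrivial (MulAction.stabilizer (partStab f) u0) := by
          refine ⟨⟨⟨⟨Equiv.swap v0 v1, swap_mem f (hv0.trans hv1.symm)⟩, ?_⟩, 1, fun e => ?_⟩⟩
          · show Equiv.swap v0 v1 u0 = u0
            refine Equiv.swap_apply_of_ne_of_ne (fun e => hne01 ?_) (fun e => hne01 ?_)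
            · rw [← hu0, e, hv0]
            · rw [← hu0, e, hv1]
          · have := congrArg (fun w : MulAction.stabilizer (partStab f) u0 => ((w : partStab f) : Perm Ω)) e
            exact hv01 (Equiv.swap_eq_one_iff.1 this)
        exact Finite.one_lt_card
      omega
    have hlt : Nat.card (partStab f) < Nat.card K :=
      Set.ncard_lt_ncard (s := (partStab f : Set (Perm Ω))) (t := (K : Set (Perm Ω))) hK
    have h24 := K.card_mul_index
    rw [Nat.card_perm, Nat.card_eq_fintype_card (α := Ω), h4, show Nat.factorial 4 = 24 by decide] at h24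
    rcases Nat.lt_or_ge K.index 3 with h | h
    · rcases eq_top_or_eq_alternating (alternatingGroup_le_of_index_le_two (G := K) (by omega)) with h' | h'
      · exact h'
      · have := (h' ▸ hsw : Equiv.swap u v ∈ alternatingGroup Ω)
        rw [Equiv.Perm.mem_alternatingGroup, sign_swap huv] at this
        exact absurd this (by decide)
    · exfalso
      have : 9 * 3 ≤ Nat.card K * K.index := Nat.mul_le_mul (by omega) h
      omega

theorem other_mem (ha : a = 2) {x x' y : Ω} (h : f x' = f x) (hne : x' ≠ x) (hy : f y = f x) :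
    y = x ∨ y = x' := by
  subst ha
  by_contra hcon
  simp only [not_or] at hcon
  have h3 : ({x, x', y} : Finset Ω) ⊆ Finset.univ.filter fun z => f z = f x := by
    simp [Finset.insert_subset_iff, h, hy]
  have := Finset.card_le_card h3
  rw [card_fibre hf, Finset.card_insert_of_notMem (by simp [Ne.symm hne, Ne.symm hcon.1]),
    Finset.card_pair (Ne.symm hcon.2)] at this
  omega

theorem exists_other (ha : a = 2) (x : Ω) : ∃ x', f x' = f x ∧ x' ≠ x := by
  subst ha
  obtain ⟨u, v, huv, hu, hv, -⟩ := exists_two_avoid hf (f x) ∅ (by simp)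
  rcases eq_or_ne u x with rfl | h
  · exact ⟨v, hv, huv.symm⟩
  · exact ⟨u, hu, h⟩

/-- In the even stabiliser of a partition into at least three pairs, a primitive overgroup
contains a three-cycle, unless there are four pairs. -/
theorem exists_isThreeCycle (ha : a = 2) (hb : 3 ≤ b) (h4 : b ≠ 4) (K : Subgroup (Perm Ω))
    (hK : partStab f ⊓ alternatingGroup Ω ≤ K) (hprim : MulAction.IsPreprimitive K Ω) :
    ∃ g ∈ K, IsThreeCycle g := by
  subst ha
  haveI := hprim
  have hdbl : ∀ p p' q q', f p' = f p → p' ≠ p → f q' = f q → q' ≠ q →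
      Equiv.swap p p' * Equiv.swap q q' ∈ K := fun p p' q q' h1 n1 h2 n2 =>
    hK ⟨mul_mem (swap_mem f h1.symm) (swap_mem f h2.symm),
      Equiv.Perm.mem_alternatingGroup.2 (by rw [map_mul, sign_swap n1.symm, sign_swap n2.symm]; rfl)⟩
  have hΩ : Fintype.card Ω = b * 2 := card_eq hf
  obtain ⟨x⟩ : Nonempty Ω := Fintype.card_pos_iff.1 (by omega)
  obtain ⟨x', hxx, hx'⟩ := exists_other hf rfl x
  -- some element fixing `x` moves `x'`
  obtain ⟨k, hkK, hkx, hkx'⟩ : ∃ k ∈ K, k x = x ∧ k x' ≠ x' := by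
    by_contra hcon
    simp only [not_exists, not_and, not_not] at hcon
    haveI : Nontrivial Ω := ⟨⟨x', x, hx'⟩⟩
    have hco : IsCoatom (MulAction.stabilizer K x) :=
      MulAction.IsPreprimitive.isCoatom_stabilizer_of_isPreprimitive K x
    obtain ⟨i, hi⟩ := Finset.exists_mem_notMem_of_card_lt_card (s := {f x})
      (t := (Finset.univ : Finset (Fin b))) (by simp; omega)
    obtain ⟨j, hj⟩ := Finset.exists_mem_notMem_of_card_lt_card (s := {f x, i})
      (t := (Finset.univ : Finset (Fin b))) (lt_of_le_of_lt Finset.card_le_two (by simp; omega))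
    simp only [Finset.mem_singleton, Finset.mem_insert, not_or, Finset.mem_univ, true_and] at hi hj
    obtain ⟨q, q', hq, hqi, hq'i, -⟩ := exists_two_avoid hf i ∅ (by simp)
    obtain ⟨r, r', hr, hrj, hr'j, -⟩ := exists_two_avoid hf j ∅ (by simp)
    have hxq : x ≠ q := fun e => hi (by rw [e, hqi])
    have hxq' : x ≠ q' := fun e => hi (by rw [e, hq'i])
    have hxr : x ≠ r := fun e => hj.1 (by rw [e, hrj])
    have hxr' : x ≠ r' := fun e => hj.1 (by rw [e, hr'j])
    have hstle : MulAction.stabilizer K x ≤ MulAction.stabilizer K x' := fun g hg => hcon g g.2 hg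
    let t : K := ⟨Equiv.swap x x' * Equiv.swap q q', hdbl x x' q q' hxx hx' (hq'i.trans hqi.symm) hq.symm⟩
    have htx : t • x = x' := by
      show (Equiv.swap x x' * Equiv.swap q q') x = x'
      rw [Perm.mul_apply, Equiv.swap_apply_of_ne_of_ne hxq hxq', Equiv.swap_apply_left]
    have hconj : ∀ g ∈ MulAction.stabilizer K x, t⁻¹ * g * t ∈ MulAction.stabilizer K x := by
      intro g hg
      have : g • x' = x' := hstle hg
      show (t⁻¹ * g * t) • x = x
      rw [mul_smul, mul_smul, htx, this, ← htx, inv_smul_smul]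
    have htn : t⁻¹ ∈ Subgroup.normalizer ((MulAction.stabilizer K x : Subgroup K) : Set K) :=
      Subgroup.mem_normalizer_fintype fun g hg => by rw [inv_inv]; exact hconj g hg
    have hn : MulAction.stabilizer K x < Subgroup.normalizer ((MulAction.stabilizer K x : Subgroup K) : Set K) := by
      refine lt_of_le_of_ne Subgroup.le_normalizer fun e => hx' ?_
      rw [← e, inv_mem_iff] at htn
      exact htx.symm.trans htn
    have hnormal := Subgroup.normalizer_eq_top_iff.1 (hco.2 _ hn)
    let s : K := ⟨Equiv.swap q q' * Equiv.swap r r', hdbl q q' r r' (hq'i.trans hqi.symm) hq.symm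
      (hr'j.trans hrj.symm) hr.symm⟩
    have hs : s ∈ MulAction.stabilizer K x := by
      show (Equiv.swap q q' * Equiv.swap r r') x = x
      rw [Perm.mul_apply, Equiv.swap_apply_of_ne_of_ne hxr hxr', Equiv.swap_apply_of_ne_of_ne hxq hxq']
    obtain ⟨h, hh⟩ := MulAction.exists_smul_eq K x q
    have h1 : (h⁻¹ * s * h⁻¹⁻¹) • x = x := hnormal.conj_mem _ hs h⁻¹
    rw [inv_inv, mul_smul, mul_smul, hh, inv_smul_eq_iff, hh] at h1
    have h2 : (Equiv.swap q q' * Equiv.swap r r') q = q := h1
    have hqr : q ≠ r := fun e => hj.2 (by rw [← hqi, e, hrj])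
    have hqr' : q ≠ r' := fun e => hj.2 (by rw [← hqi, e, hr'j])
    rw [Perm.mul_apply, Equiv.swap_apply_of_ne_of_ne hqr hqr', Equiv.swap_apply_left] at h2
    exact hq h2.symm
  set w := k x' with hw
  have hwx : w ≠ x := fun e => hx' (k.injective (e.trans hkx.symm))
  have hfw : f w ≠ f x := fun e => by
    rcases other_mem hf rfl hxx hx' e with h | h
    · exact hwx h
    · exact hkx' h
  obtain ⟨w', hww, hw'⟩ := exists_other hf rfl w
  have hxw' : x ≠ w' := fun e => hfw (by rw [e, hww])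
  have hx'w : x' ≠ w := fun e => hfw (by rw [← e, hxx])
  have hx'w' : x' ≠ w' := fun e => hfw (by rw [← hxx, e, hww])
  have hD : ∀ i, i ≠ f x → ∃ q q', q ≠ q' ∧ f q = i ∧ f q' = i ∧ k q ≠ x ∧ k q' ≠ x ∧ k q ≠ w ∧ k q' ≠ w ∧
      Equiv.swap x w * Equiv.swap (k q) (k q') ∈ K := by
    intro i hi
    obtain ⟨q, q', hq, hqi, hq'i, -⟩ := exists_two_avoid hf i ∅ (by simp)
    refine ⟨q, q', hq, hqi, hq'i, fun e => hi ?_, fun e => hi ?_, fun e => hi ?_, fun e => hi ?_, ?_⟩
    · rw [← hqi, k.injective (e.trans hkx.symm)]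
    · rw [← hq'i, k.injective (e.trans hkx.symm)]
    · rw [← hqi, k.injective e, hxx]
    · rw [← hq'i, k.injective e, hxx]
    · have hmem : k * (Equiv.swap x x' * Equiv.swap q q') * k⁻¹ ∈ K :=
        K.mul_mem (K.mul_mem hkK (hdbl x x' q q' hxx hx' (hq'i.trans hqi.symm) hq.symm)) (K.inv_mem hkK)
      have : Equiv.swap x w * Equiv.swap (k q) (k q') = k * (Equiv.swap x x' * Equiv.swap q q') * k⁻¹ := by
        conv_lhs => rw [← hkx, hw, Equiv.swap_apply_apply, Equiv.swap_apply_apply]
        group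
      rw [this]; exact hmem
  obtain ⟨c, d, hcd, hcx, hdx, hcw, hdw, hDK, hnot⟩ : ∃ c d, c ≠ d ∧ c ≠ x ∧ d ≠ x ∧ c ≠ w ∧ d ≠ w ∧
      Equiv.swap x w * Equiv.swap c d ∈ K ∧ ¬ ((c = x' ∨ c = w') ∧ (d = x' ∨ d = w')) := by
    obtain ⟨i, -, hi⟩ := Finset.exists_mem_notMem_of_card_lt_card (s := {f x})
      (t := (Finset.univ : Finset (Fin b))) (by simp; omega)
    obtain ⟨j, -, hj⟩ := Finset.exists_mem_notMem_of_card_lt_card (s := {f x, i})
      (t := (Finset.univ : Finset (Fin b))) (lt_of_le_of_lt Finset.card_le_two (by simp; omega))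
    simp only [Finset.mem_singleton, Finset.mem_insert, not_or] at hi hj
    obtain ⟨q, q', hq, hqi, hq'i, a1, a2, a3, a4, a5⟩ := hD i hi
    obtain ⟨r, r', hr, hrj, hr'j, b1, b2, b3, b4, b5⟩ := hD j hj.1
    by_cases hh : (k q = x' ∨ k q = w') ∧ (k q' = x' ∨ k q' = w')
    · refine ⟨k r, k r', k.injective.ne hr, b1, b2, b3, b4, b5, fun hh' => ?_⟩
      have hrq : k r ≠ k q := k.injective.ne fun e => hj.2 (by rw [← hrj, e, hqi])
      have hrq' : k r ≠ k q' := k.injective.ne fun e => hj.2 (by rw [← hrj, e, hq'i])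
      have hqq : k q ≠ k q' := k.injective.ne hq
      rcases hh.1 with h1 | h1 <;> rcases hh.2 with h2 | h2 <;> rcases hh'.1 with h3 | h3
      all_goals simp_all
    · exact ⟨k q, k q', k.injective.ne hq, a1, a2, a3, a4, a5, hh⟩
  -- the block exchange
  have hblock : Equiv.swap x w * Equiv.swap x' w' ∈ K := by
    refine hK ⟨?_, Equiv.Perm.mem_alternatingGroup.2 (by rw [map_mul, sign_swap hwx.symm, sign_swap hx'w']; rfl)⟩
    have hval : ∀ z, f ((Equiv.swap x w * Equiv.swap x' w') z) = Equiv.swap (f x) (f w) (f z) := by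
      intro z
      rw [Perm.mul_apply]
      by_cases h1 : f z = f x
      · rw [h1, Equiv.swap_apply_left]
        rcases other_mem hf rfl hxx hx' h1 with rfl | rfl
        · rw [Equiv.swap_apply_of_ne_of_ne hx'.symm hxw', Equiv.swap_apply_left]
        · rw [Equiv.swap_apply_left, Equiv.swap_apply_of_ne_of_ne hxw'.symm hw', hww]
      · by_cases h2 : f z = f w
        · rw [h2, Equiv.swap_apply_right]
          rcases other_mem hf rfl hww hw' h2 with rfl | rfl
          · rw [Equiv.swap_apply_of_ne_of_ne hx'w.symm hw'.symm, Equiv.swap_apply_right]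
          · rw [Equiv.swap_apply_right, Equiv.swap_apply_of_ne_of_ne hx' hx'w, hxx]
        · rw [Equiv.swap_apply_of_ne_of_ne h1 h2, Equiv.swap_apply_of_ne_of_ne
            (fun e : z = x' => h1 (by rw [e, hxx])) (fun e : z = w' => h2 (by rw [e, hww])),
            Equiv.swap_apply_of_ne_of_ne (fun e : z = x => h1 (by rw [e])) (fun e : z = w => h2 (by rw [e]))]
    intro z z'
    show f z = f z' ↔ f ((Equiv.swap x w * Equiv.swap x' w') z) = f ((Equiv.swap x w * Equiv.swap x' w') z')
    rw [hval, hval]; exact (Equiv.swap _ _).injective.eq_iff.symm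
  have hsame : ∀ c d, c ≠ d → c ≠ x → d ≠ x → c ≠ w → d ≠ w → (c = x' ∨ c = w') → d ≠ x' → d ≠ w' →
      Equiv.swap x w * Equiv.swap c d ∈ K → ∃ g ∈ K, IsThreeCycle g := by
    intro c d hcd hcx hdx hcw hdw hc hd1 hd2 hDK
    refine ⟨_, K.mul_mem hblock hDK, ?_⟩
    have hcomm : Commute (Equiv.swap x w) (Equiv.swap x' w') := by
      refine (disjoint_iff_disjoint_support.2 ?_).commute
      rw [support_swap hwx.symm, support_swap hx'w']
      simp [hx', hx'w, hxw'.symm, hw']
    rw [hcomm.eq, mul_assoc, ← mul_assoc (Equiv.swap x w), Equiv.swap_mul_self, one_mul]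
    rcases hc with rfl | rfl
    · exact isThreeCycle_swap_mul_swap_same hx'w' hcd hd2.symm
    · rw [Equiv.swap_comm x' c]
      exact isThreeCycle_swap_mul_swap_same hx'w'.symm hcd hd1.symm
  by_cases hc : c = x' ∨ c = w'
  · exact hsame c d hcd hcx hdx hcw hdw hc (fun e => hnot ⟨hc, Or.inl e⟩) (fun e => hnot ⟨hc, Or.inr e⟩) hDK
  simp only [not_or] at hc
  by_cases hd : d = x' ∨ d = w'
  · refine hsame d c hcd.symm hdx hcx hdw hcw hd hc.1 hc.2 ?_
    rwa [Equiv.swap_comm d c]
  simp only [not_or] at hd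
  have out : ∀ z, z ≠ x → z ≠ x' → z ≠ w → z ≠ w' → f z ≠ f x ∧ f z ≠ f w := fun z z1 z2 z3 z4 =>
    ⟨fun e => (other_mem hf rfl hxx hx' e).elim z1 z2, fun e => (other_mem hf rfl hww hw' e).elim z3 z4⟩
  obtain ⟨hcfx, hcfw⟩ := out c hcx hc.1 hcw hc.2
  obtain ⟨hdfx, hdfw⟩ := out d hdx hd.1 hdw hd.2
  by_cases hfcd : f c = f d
  · refine ⟨_, K.mul_mem hDK (hdbl c d x x' hfcd.symm hcd.symm hxx hx'), ?_⟩
    rw [mul_assoc, ← mul_assoc (Equiv.swap c d), Equiv.swap_mul_self, one_mul]
    exact isThreeCycle_swap_mul_swap_same hwx.symm hx'.symm hx'w.symm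
  · have hb5 : 5 ≤ b := by
      have h := Finset.card_le_univ ({f x, f w, f c, f d} : Finset (Fin b))
      rw [Finset.card_insert_of_notMem (by simp [hfw.symm, hcfx.symm, hdfx.symm]),
        Finset.card_insert_of_notMem (by simp [hcfw.symm, hdfw.symm]),
        Finset.card_pair hfcd, Fintype.card_fin] at h
      omega
    obtain ⟨i, -, hi⟩ := Finset.exists_mem_notMem_of_card_lt_card (s := {f x, f w, f c, f d})
      (t := (Finset.univ : Finset (Fin b))) (lt_of_le_of_lt Finset.card_le_four (by simp; omega))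
    simp only [Finset.mem_insert, Finset.mem_singleton, not_or] at hi
    obtain ⟨r, r', hr, hri, hr'i, -⟩ := exists_two_avoid hf i ∅ (by simp)
    obtain ⟨d', hdd, hd'⟩ := exists_other hf rfl d
    have hnr : ∀ z, f z ≠ i → Equiv.swap r r' z = z := fun z hz =>
      Equiv.swap_apply_of_ne_of_ne (fun e => hz (by rw [e, hri])) (fun e => hz (by rw [e, hr'i]))
    set σ := Equiv.swap d d' * Equiv.swap r r' with hσ
    have hσK : σ ∈ K := hdbl d d' r r' hdd hd' (hr'i.trans hri.symm) hr.symm
    have hfix : ∀ z, f z ≠ i → f z ≠ f d → σ z = z := fun z hz hz' => by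
      rw [hσ, Perm.mul_apply, hnr z hz, Equiv.swap_apply_of_ne_of_ne (fun e => hz' (by rw [e]))
        (fun e => hz' (by rw [e, hdd]))]
    have hσd : σ d = d' := by rw [hσ, Perm.mul_apply, hnr d (Ne.symm hi.2.2.2), Equiv.swap_apply_left]
    have hconj : Equiv.swap x w * Equiv.swap c d' = σ * (Equiv.swap x w * Equiv.swap c d) * σ⁻¹ := by
      conv_lhs => rw [← hfix x (Ne.symm hi.1) hdfx.symm, ← hfix w (Ne.symm hi.2.1) hdfw.symm,
        ← hfix c (Ne.symm hi.2.2.1) hfcd, ← hσd, Equiv.swap_apply_apply, Equiv.swap_apply_apply]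
      group
    refine ⟨_, K.mul_mem hDK (hconj ▸ K.mul_mem (K.mul_mem hσK hDK) (K.inv_mem hσK) :
      Equiv.swap x w * Equiv.swap c d' ∈ K), ?_⟩
    have hcomm : Commute (Equiv.swap x w) (Equiv.swap c d) := by
      refine (disjoint_iff_disjoint_support.2 ?_).commute
      rw [support_swap hwx.symm, support_swap hcd]
      simp [hcx, hcw, hdx, hdw]
    rw [hcomm.eq, mul_assoc, ← mul_assoc (Equiv.swap x w), Equiv.swap_mul_self, one_mul]
    exact isThreeCycle_swap_mul_swap_same hcd (fun e => hfcd (by rw [e, hdd])) hd'.symm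

theorem isCoatom_even_partStab (ha : 2 ≤ a) (hb : 2 ≤ b) (h8 : Fintype.card Ω ≠ 8) :
    IsCoatom ((partStab f ⊓ alternatingGroup Ω).subgroupOf (alternatingGroup Ω)) := by
  haveI : Nontrivial Ω := by
    rw [← Fintype.one_lt_card_iff_nontrivial, card_eq hf]
    nlinarith
  obtain ⟨u, u', huu, hu, hu', -⟩ := exists_two_avoid hf ⟨0, by omega⟩ ∅ (by simpa using ha)
  refine ⟨fun h => ?_, fun L hL => ?_⟩
  · rw [Subgroup.subgroupOf_eq_top] at h
    rcases eq_top_or_eq_alternating (h.trans inf_le_left) with h' | h'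
    · exact partStab_ne_top hf ha hb h'
    · have hm := swap_mem f (hu.trans hu'.symm)
      rw [h', Equiv.Perm.mem_alternatingGroup, sign_swap huu] at hm
      exact absurd hm (by decide)
  set K := L.map (alternatingGroup Ω).subtype with hKdef
  have hW : partStab f ⊓ alternatingGroup Ω ≤ K := fun g hg =>
    ⟨⟨g, hg.2⟩, hL.le hg, rfl⟩
  obtain ⟨l, hl, hlW⟩ := SetLike.exists_of_lt hL
  have hkK : (l : Perm Ω) ∈ K := ⟨l, hl, rfl⟩
  have hkW : (l : Perm Ω) ∉ partStab f := fun h => hlW ⟨h, l.2⟩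
  have hKA : K ≤ alternatingGroup Ω := Subgroup.map_subtype_le _
  suffices hle : alternatingGroup Ω ≤ K by
    refine Subgroup.map_injective (alternatingGroup Ω).subtype_injective ?_
    rw [← MonoidHom.range_eq_map, Subgroup.range_subtype]
    exact le_antisymm hKA hle
  by_cases ha3 : 3 ≤ a
  · have hprim := isPreprimitive hf ha hb (Or.inl ha3) K hW hkK hkW
    obtain ⟨u, v, huv, hu, hv, -⟩ := exists_two_avoid hf ⟨0, by omega⟩ ∅ (by simpa using ha)
    obtain ⟨z, hzf, hz⟩ : ∃ z ∈ (Finset.univ.filter fun z => f z = (⟨0, by omega⟩ : Fin b)), z ∉ ({u, v} : Finset Ω) :=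
      Finset.exists_mem_notMem_of_card_lt_card
        (lt_of_le_of_lt Finset.card_le_two (show 2 < _ by rw [card_fibre hf (⟨0, by omega⟩ : Fin b)]; omega))
    simp only [Finset.mem_insert, Finset.mem_singleton, not_or] at hz
    simp only [Finset.mem_filter, Finset.mem_univ, true_and] at hzf
    refine alternatingGroup_le_of_isPreprimitive_of_isThreeCycle_mem hprim
      (isThreeCycle_swap_mul_swap_same huv (Ne.symm hz.1) (Ne.symm hz.2))
      (hW ⟨mul_mem (swap_mem f (hu.trans hv.symm)) (swap_mem f (hu.trans hzf.symm)),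
        Equiv.Perm.mem_alternatingGroup.2 (by rw [map_mul, sign_swap huv, sign_swap (Ne.symm hz.1)]; rfl)⟩)
  obtain rfl : a = 2 := by omega
  by_cases hb3 : 3 ≤ b
  · have hprim := isPreprimitive hf ha hb (Or.inr hb3) K hW hkK hkW
    have hb4 : b ≠ 4 := fun e => h8 (by rw [card_eq hf, e])
    obtain ⟨g, hg, h3⟩ := exists_isThreeCycle hf rfl hb3 hb4 K hW hprim
    exact alternatingGroup_le_of_isPreprimitive_of_isThreeCycle_mem hprim h3 hg
  obtain rfl : b = 2 := by omega
  have h4 : Fintype.card Ω = 4 := card_eq hf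
  haveI : MulAction.IsPretransitive K Ω := ⟨fun x y => by
    obtain ⟨w, hw, hwx⟩ := exists_even_move hf ha hb x y
    exact ⟨⟨w, hW hw⟩, hwx⟩⟩
  obtain ⟨v, hv, hvl⟩ := exists_even_move hf ha hb u ((l : Perm Ω) u)
  set g : Perm Ω := v⁻¹ * l with hg
  have hgK : g ∈ K := K.mul_mem (K.inv_mem (hW hv)) hkK
  have hgu : g u = u := by rw [hg, Perm.mul_apply, ← hvl]; simp
  have hg1 : g ≠ 1 := fun e => hkW (by
    rw [hg, inv_mul_eq_one] at e
    rw [← e]; exact hv.1)
  have hgsign : sign g = 1 := Equiv.Perm.mem_alternatingGroup.1 (hKA hgK)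
  have h3c : IsThreeCycle g := by
    rw [← card_support_eq_three_iff]
    have hle : g.support.card ≤ 3 := by
      have : g.support ⊆ Finset.univ.erase u := fun z hz => Finset.mem_erase.2
        ⟨fun e => by rw [e] at hz; exact (mem_support.1 hz) hgu, Finset.mem_univ _⟩
      have := Finset.card_le_card this
      rw [Finset.card_erase_of_mem (Finset.mem_univ _), Finset.card_univ, h4] at this
      exact this
    have h1 : g.support.card ≠ 1 := card_support_ne_one g
    have h0 : g.support.card ≠ 0 := by simpa [Finset.card_eq_zero] using hg1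
    have h2 : g.support.card ≠ 2 := fun e => by
      rw [(card_support_eq_two.1 e).sign_eq] at hgsign
      exact absurd hgsign (by decide)
    omega
  have hd3 : 3 ∣ Nat.card K := by
    rw [← h3c.orderOf, ← Subgroup.orderOf_mk g hgK]
    exact orderOf_dvd_natCard _
  have hd4 : 4 ∣ Nat.card K := by
    have := (MulAction.stabilizer K u).index_dvd_card
    rwa [MulAction.index_stabilizer_of_transitive, Nat.card_eq_fintype_card (α := Ω), h4] at this
  have h12 : 12 ∣ Nat.card K := Nat.Coprime.mul_dvd_of_dvd_of_dvd (by norm_num : Nat.Coprime 4 3) hd4 hd3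
  refine alternatingGroup_le_of_index_le_two ?_
  have hmul := K.card_mul_index
  rw [Nat.card_perm, Nat.card_eq_fintype_card (α := Ω), h4, show Nat.factorial 4 = 24 by decide] at hmul
  have := Nat.le_of_dvd Nat.card_pos h12
  nlinarith

end Cfsg.Agent.Lib.Partition
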